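import Groth.Agent.PIGenus24.Gap
import Groth.Agent.CommAlg4.ConstExtTower
import Groth.Agent.CommAlg4.ConstExtUnique

/-! Purely inseparable constant extensions: the genus does not grow, and stays iff nonsingular. -/

set_option autoImplicit false
set_option linter.style.haveILetI false
set_option backward.isDefEq.respectTransparency.types false

open FunFld WithZero TensorProduct
open Groth.Agent.FF Groth.Agent.CommAlg4
universe u v

namespace Groth.Agent.PIGenus24

variable {k k' : Type u} {K K' : Type v} [Field k] [Field k'] [Field K] [Field K']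
  [Algebra k k'] [FiniteDimensional k k'] [Algebra k K] [Algebra K K'] [Algebra k' K'] [Algebra k K']
  [IsScalarTower k k' K'] [IsScalarTower k K K']

/-- A place over `k` is at most one on the bigger constants. -/
theorem val_const_le_one (Q : Place k K') (c : k') : Q.1 (algebraMap k' K' c) ≤ 1 := by
  have hc : IsIntegral Q.O (algebraMap k' K' c) :=
    (IsIntegral.of_finite k c).map_of_comp_eq (algebraMap k Q.O) (algebraMap k' K') (by
      ext x
      simp only [RingHom.comp_apply]
      rw [← IsScalarTower.algebraMap_apply k k' K']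
      rfl)
  obtain ⟨d, hd⟩ := IsIntegrallyClosed.isIntegral_iff.mp hc
  exact hd ▸ (FF.mem_O Q).mp d.2

/-- Places over the bigger constant field. -/
def toBig (Q : Place k K') : Place k' K' := ⟨Q.1, fun c => val_const_le_one Q c, Q.2.2⟩

/-- Places over the smaller constant field. -/
def toSmall (Q : Place k' K') : Place k K' :=
  ⟨Q.1, fun c => by rw [IsScalarTower.algebraMap_apply k k' K']; exact Q.2.1 _, Q.2.2⟩

variable (hb : Function.Bijective (Algebra.TensorProduct.productMap
    (IsScalarTower.toAlgHom k k' K') (IsScalarTower.toAlgHom k K K')))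

include hb in
theorem exists_coords (x : K') : ∃ z : Fin (Module.finrank k k') → K,
    x = ∑ j, algebraMap k' K' (Module.finBasis k k' j) * algebraMap K K' (z j) :=
  ⟨fun j => ConstExt.cd hb x j, ConstExt.eq_sum_cd hb x⟩

include hb in
theorem genus_le_and (hK : IsFunctionField k K) (hK' : IsFunctionField k' K') [hpi : IsPurelyInseparable k k'] :
    genus k' K' ≤ genus k K ∧ (genus k' K' = genus k K → ∀ P : Place k K,
      integralClosure (P.O.toSubring.map (algebraMap K K')) K' =
        Algebra.adjoin (P.O.toSubring.map (algebraMap K K')) (Set.range (algebraMap k' K'))) := by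
  classical
  haveI := ConstExt.finiteDimensional hb
  suffices key : ∀ P : Place k K, genus k' K' ≤ genus k K ∧ (genus k' K' = genus k K →
      integralClosure (P.O.toSubring.map (algebraMap K K')) K' =
        Algebra.adjoin (P.O.toSubring.map (algebraMap K K')) (Set.range (algebraMap k' K'))) by
    obtain ⟨P₀⟩ := nonempty_place hK
    exact ⟨(key P₀).1, fun e P => (key P).2 e⟩
  intro P
  obtain ⟨Q, hQ, huniq⟩ := ConstExt.existsUnique_over hb hK P (Or.inl hpi)
  obtain ⟨hfin, hg⟩ := finrank_quotient k K hK P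
  obtain ⟨hfin', hg'⟩ := finrank_quotient k' K' hK' (toBig Q)
  set W := Subalgebra.toSubmodule (sInt ({P} : Set (FunFld.Place k K))) ⊔
    Subalgebra.toSubmodule (sInt (({P} : Set (FunFld.Place k K))ᶜ)) with hWdef
  set W' := Subalgebra.toSubmodule (sInt ({toBig Q} : Set (FunFld.Place k' K'))) ⊔
    Subalgebra.toSubmodule (sInt (({toBig Q} : Set (FunFld.Place k' K'))ᶜ)) with hW'def
  have hA : ∀ a : K, a ∈ sInt ({P} : Set (FunFld.Place k K)) →
      algebraMap K K' a ∈ sInt ({toBig Q} : Set (FunFld.Place k' K')) := by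
    intro a ha R hR
    obtain ⟨P', e, he⟩ := exists_isOverWith (K := K) hK.1 (toSmall R : Place k K')
    have hne : P' ∉ ({P} : Set (FunFld.Place k K)) := fun h => hR (by
      obtain rfl : P' = P := h
      have h1 : (toSmall R : Place k K') = Q := huniq _ ⟨e, he.2⟩
      exact Subtype.ext (by rw [← h1]; rfl))
    show (toSmall R : Place k K').1 (algebraMap K K' a) ≤ 1
    exact (ow_le_one_iff he.2 a).2 (ha P' hne)
  have hO : ∀ a : K, P.1 a ≤ 1 → algebraMap K K' a ∈ sInt (({toBig Q} : Set (FunFld.Place k' K'))ᶜ) := by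
    intro a ha R hR
    obtain rfl : R = toBig Q := by simpa using hR
    exact (ow_le_one_iff (isOverWith_ramIdx hQ) a).2 ha
  let q : K →ₗ[k] K' ⧸ W' := (W'.mkQ.restrictScalars k) ∘ₗ (IsScalarTower.toAlgHom k K K').toLinearMap
  have hq : ∀ a ∈ W, q a = 0 := by
    intro a ha
    obtain ⟨y, hy, z, hz, rfl⟩ := Submodule.mem_sup.1 ha
    refine (Submodule.Quotient.mk_eq_zero W').2 ?_
    show algebraMap K K' (y + z) ∈ W'
    rw [map_add]
    exact Submodule.mem_sup.2 ⟨_, hA y hy, _, hO z (hz P (by simp)), rfl⟩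
  let q' : K ⧸ W →ₗ[k] K' ⧸ W' := W.liftQ q fun a ha => hq a ha
  haveI := hfin
  haveI := hfin'
  let e := Module.finBasisOfFinrankEq k (K ⧸ W) hg
  let w : Fin (genus k K) → K' ⧸ W' := fun i => q' (e i)
  have hmkx : ∀ x : K', ∀ z : Fin (Module.finrank k k') → K,
      x = ∑ j, algebraMap k' K' (Module.finBasis k k' j) * algebraMap K K' (z j) →
      W'.mkQ x = ∑ i, (∑ j, algebraMap k k' (e.repr (W.mkQ (z j)) i) * Module.finBasis k k' j) • w i := by
    intro x z hx
    have h1 : W'.mkQ x = ∑ j, Module.finBasis k k' j • q (z j) := by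
      rw [hx, map_sum]
      refine Finset.sum_congr rfl fun j _ => ?_
      rw [← Algebra.smul_def, map_smul]
      rfl
    have h2 : ∀ j, q (z j) = ∑ i, algebraMap k k' (e.repr (W.mkQ (z j)) i) • w i := by
      intro j
      calc q (z j) = q' (∑ i, e.repr (W.mkQ (z j)) i • e i) := by rw [e.sum_repr]; rfl
        _ = _ := by rw [map_sum]; exact Finset.sum_congr rfl fun i _ => by rw [map_smul, algebraMap_smul]
    rw [h1]
    simp only [h2, Finset.smul_sum, smul_smul, Finset.sum_smul]
    rw [Finset.sum_comm]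
    exact Finset.sum_congr rfl fun i _ => Finset.sum_congr rfl fun j _ => by rw [mul_comm]
  have hspan : ⊤ ≤ Submodule.span k' (Set.range w) := by
    rintro x -
    obtain ⟨x, rfl⟩ := W'.mkQ_surjective x
    obtain ⟨z, hz⟩ := exists_coords hb x
    rw [hmkx x z hz]
    exact Submodule.sum_mem _ fun i _ => Submodule.smul_mem _ _ (Submodule.subset_span ⟨i, rfl⟩)
  refine ⟨?_, fun heq => ?_⟩
  · have h1 := finrank_range_le_card (R := k') w
    rw [Set.finrank, top_le_iff.1 hspan, finrank_top, hg', Fintype.card_fin] at h1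
    exact h1
  have hli : LinearIndependent k' w := linearIndependent_of_top_le_span_of_card_eq_finrank hspan
    (by rw [hg', Fintype.card_fin, heq])
  refine le_antisymm (fun x hx => ?_) (ConstExt.adjoin_le_integralClosure (F := k') _ fun c =>
    ⟨algebraMap k K c, P.2.1 c, (IsScalarTower.algebraMap_apply k K K' c).symm⟩)
  have hxO : x ∈ sInt (({toBig Q} : Set (FunFld.Place k' K'))ᶜ) := by
    intro R hR
    obtain rfl : R = toBig Q := by simpa using hR
    obtain ⟨p, hp, hpx⟩ := (ConstExt.isIntegral_subringMap_iff (algebraMap K K') P.O.toSubring x).1 hx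
    have hi : IsIntegral Q.O x := ⟨p.map (ringMap hQ), hp.map _, by
      rw [Polynomial.eval₂_map]; exact hpx⟩
    obtain ⟨d, hd⟩ := IsIntegrallyClosed.isIntegral_iff.mp hi
    exact hd ▸ (FF.mem_O Q).mp d.2
  obtain ⟨z, hz⟩ := exists_coords hb x
  have h0 : W'.mkQ x = 0 := (Submodule.Quotient.mk_eq_zero W').2 (Submodule.mem_sup_right hxO)
  rw [hmkx x z hz] at h0
  have hc := Fintype.linearIndependent_iff.1 hli _ h0
  have hzW : ∀ j, z j ∈ W := by
    intro j
    have hrep : e.repr (W.mkQ (z j)) = 0 := Finsupp.ext fun i => by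
      have h1 : ∑ j', e.repr (W.mkQ (z j')) i • Module.finBasis k k' j' = 0 := by
        rw [← hc i]
        exact Finset.sum_congr rfl fun j' _ => Algebra.smul_def _ _
      exact Fintype.linearIndependent_iff.1 (Module.finBasis k k').linearIndependent _ h1 j
    exact (Submodule.Quotient.mk_eq_zero W).1 ((LinearEquiv.map_eq_zero_iff e.repr).1 hrep)
  choose y hy o ho hyo using fun j => Submodule.mem_sup.1 (hzW j)
  set u := ∑ j, algebraMap k' K' (Module.finBasis k k' j) * algebraMap K K' (y j) with hu
  set t := ∑ j, algebraMap k' K' (Module.finBasis k k' j) * algebraMap K K' (o j) with ht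
  have hut : x = u + t := by
    rw [hz, hu, ht, ← Finset.sum_add_distrib]
    exact Finset.sum_congr rfl fun j _ => by rw [← hyo, map_add, mul_add]
  have htmem : t ∈ Algebra.adjoin (P.O.toSubring.map (algebraMap K K')) (Set.range (algebraMap k' K')) :=
    Subalgebra.sum_mem _ fun j _ => Subalgebra.mul_mem _ (Algebra.subset_adjoin ⟨_, rfl⟩)
      (Subalgebra.algebraMap_mem _ (⟨_, ⟨o j, (FF.mem_O P).2 (ho j P (by simp)), rfl⟩⟩ :
        P.O.toSubring.map (algebraMap K K')))
  have huA : u ∈ sInt ({toBig Q} : Set (FunFld.Place k' K')) :=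
    Subalgebra.sum_mem _ fun j _ => Subalgebra.mul_mem _ (Subalgebra.algebraMap_mem _ _) (hA _ (hy j))
  have huO : u ∈ sInt (({toBig Q} : Set (FunFld.Place k' K'))ᶜ) := by
    rw [show u = x - t by rw [hut]; ring]
    exact Subalgebra.sub_mem _ hxO (Subalgebra.sum_mem _ fun j _ => Subalgebra.mul_mem _
      (Subalgebra.algebraMap_mem _ _) (hO _ (ho j P (by simp))))
  have hall : ∀ R : Place k' K', R.1 u ≤ 1 := fun R => by
    by_cases hR : R = toBig Q
    · exact huO R (by simp [hR])
    · exact huA R (by simpa using hR)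
  have halg : IsAlgebraic k' u := by
    by_contra htr
    obtain ⟨R, hR⟩ := exists_one_lt_val hK' (show Transcendental k' u from htr)
    exact not_lt.2 (hall R) hR
  obtain ⟨c, hcu⟩ := hK'.2 u halg
  rw [hut, ← hcu]
  exact Subalgebra.add_mem _ (Algebra.subset_adjoin ⟨c, rfl⟩) htmem

end Groth.Agent.PIGenus24
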