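import Groth.Agent.CommAlg4.ConstExtTower

/-! Models of constant extensions in the universe of the function field; composites. -/

set_option autoImplicit false
set_option linter.style.haveILetI false
set_option backward.isDefEq.respectTransparency.types false

open TensorProduct
universe u v

namespace Groth.Agent.PIGenus24

theorem exists_model_of_equiv (k k' : Type u) (K T : Type v) [Field k] [Field k'] [Field K] [Field T] [Algebra k k']
    [Algebra k K] [Algebra k T] (e : T ≃ₐ[k] k' ⊗[k] K) :
    ∃ (K' : Type v) (_ : Field K') (_ : Algebra k K') (_ : Algebra k' K') (_ : Algebra K K')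
      (_ : IsScalarTower k k' K') (_ : IsScalarTower k K K'),
      Function.Bijective (Algebra.TensorProduct.productMap
        (IsScalarTower.toAlgHom k k' K') (IsScalarTower.toAlgHom k K K')) := by
  let φ : K →ₐ[k] T := e.symm.toAlgHom.comp Algebra.TensorProduct.includeRight
  let ψ : k' →ₐ[k] T := e.symm.toAlgHom.comp Algebra.TensorProduct.includeLeft
  letI iK : Algebra K T := φ.toRingHom.toAlgebra
  letI ik : Algebra k' T := ψ.toRingHom.toAlgebra
  haveI h1 : IsScalarTower k k' T := IsScalarTower.of_algebraMap_eq fun c => (ψ.commutes c).symm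
  haveI h2 : IsScalarTower k K T := IsScalarTower.of_algebraMap_eq fun c => (φ.commutes c).symm
  refine ⟨T, inferInstance, inferInstance, ik, iK, h1, h2, ?_⟩
  have he : ∀ t, Algebra.TensorProduct.productMap (IsScalarTower.toAlgHom k k' T)
      (IsScalarTower.toAlgHom k K T) t = e.symm t := by
    intro t
    induction t using TensorProduct.induction_on with
    | zero => simp
    | tmul c a =>
      rw [Algebra.TensorProduct.productMap_apply_tmul]
      show e.symm (c ⊗ₜ 1) * e.symm (1 ⊗ₜ a) = _
      rw [← map_mul, Algebra.TensorProduct.tmul_mul_tmul, mul_one, one_mul]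
    | add x y hx hy => rw [map_add, hx, hy, map_add]
  rw [funext he]
  exact e.symm.bijective

theorem exists_model (k k' : Type u) (K : Type v) [Field k] [Field k'] [Field K] [Algebra k k'] [FiniteDimensional k k']
    [Algebra k K] (hg : FunFld.IsGeometric k K) :
    ∃ (K' : Type v) (_ : Field K') (_ : Algebra k K') (_ : Algebra k' K') (_ : Algebra K K')
      (_ : IsScalarTower k k' K') (_ : IsScalarTower k K K'),
      Function.Bijective (Algebra.TensorProduct.productMap
        (IsScalarTower.toAlgHom k k' K') (IsScalarTower.toAlgHom k K K')) := by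
  haveI : Small.{v} (k' ⊗[k] K) :=
    small_of_injective (TensorProduct.equivFinsuppOfBasisLeft (Module.finBasis k k') (N := K)).injective
  let e : Shrink.{v} (k' ⊗[k] K) ≃ₐ[k] k' ⊗[k] K := Shrink.algEquiv k (k' ⊗[k] K)
  letI : Field (Shrink.{v} (k' ⊗[k] K)) := (MulEquiv.isField (hg k' inferInstance) e.toMulEquiv).toField
  exact exists_model_of_equiv k k' K _ e

theorem bijective_self (k : Type u) (K : Type v) [Field k] [Field K] [Algebra k K] :
    Function.Bijective (Algebra.TensorProduct.productMap (IsScalarTower.toAlgHom k k K) (IsScalarTower.toAlgHom k K K)) := by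
  have he : ∀ t, Algebra.TensorProduct.productMap (IsScalarTower.toAlgHom k k K) (IsScalarTower.toAlgHom k K K) t =
      Algebra.TensorProduct.lid k K t := by
    intro t
    induction t using TensorProduct.induction_on with
    | zero => simp
    | tmul c a => simp [Algebra.smul_def]
    | add x y hx hy => rw [map_add, hx, hy, map_add]
  rw [funext he]
  exact (Algebra.TensorProduct.lid k K).bijective

theorem bijective_trans_iff {k₀ k₁ k₂ : Type u} {K₀ K₁ K₂ : Type v} [Field k₀] [Field k₁] [Field k₂] [Field K₀]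
    [Field K₁] [Field K₂] [Algebra k₀ k₁] [Algebra k₁ k₂] [Algebra k₀ k₂] [IsScalarTower k₀ k₁ k₂]
    [Algebra k₀ K₀] [Algebra k₁ K₁] [Algebra k₀ K₁] [IsScalarTower k₀ k₁ K₁] [Algebra K₀ K₁] [IsScalarTower k₀ K₀ K₁]
    [Algebra k₂ K₂] [Algebra k₁ K₂] [IsScalarTower k₁ k₂ K₂] [Algebra k₀ K₂] [IsScalarTower k₀ k₂ K₂]
    [Algebra K₁ K₂] [IsScalarTower k₁ K₁ K₂] [Algebra K₀ K₂] [IsScalarTower k₀ K₀ K₂] [IsScalarTower K₀ K₁ K₂]
    (h1 : Function.Bijective (Algebra.TensorProduct.productMap
      (IsScalarTower.toAlgHom k₀ k₁ K₁) (IsScalarTower.toAlgHom k₀ K₀ K₁))) :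
    Function.Bijective (Algebra.TensorProduct.productMap
      (IsScalarTower.toAlgHom k₁ k₂ K₂) (IsScalarTower.toAlgHom k₁ K₁ K₂)) ↔
    Function.Bijective (Algebra.TensorProduct.productMap
      (IsScalarTower.toAlgHom k₀ k₂ K₂) (IsScalarTower.toAlgHom k₀ K₀ K₂)) := by
  let f : k₁ ⊗[k₀] K₀ →ₐ[k₁] K₁ :=
    Algebra.TensorProduct.lift (Algebra.ofId k₁ K₁) (IsScalarTower.toAlgHom k₀ K₀ K₁) fun _ _ => Commute.all _ _
  have hf : Function.Bijective f := by
    have he : ∀ t, f t = Algebra.TensorProduct.productMap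
        (IsScalarTower.toAlgHom k₀ k₁ K₁) (IsScalarTower.toAlgHom k₀ K₀ K₁) t := by
      intro t
      induction t using TensorProduct.induction_on with
      | zero => simp
      | tmul c a => simp [f]
      | add x y hx hy => rw [map_add, hx, hy, map_add]
    rw [funext he]
    exact h1
  let e : k₂ ⊗[k₀] K₀ ≃ k₂ ⊗[k₁] K₁ :=
    (TensorProduct.AlgebraTensorModule.cancelBaseChange k₀ k₁ k₁ k₂ K₀).symm.toEquiv.trans
      (TensorProduct.congr (LinearEquiv.refl k₁ k₂) (AlgEquiv.ofBijective f hf).toLinearEquiv).toEquiv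
  have key : ∀ t, Algebra.TensorProduct.productMap
      (IsScalarTower.toAlgHom k₀ k₂ K₂) (IsScalarTower.toAlgHom k₀ K₀ K₂) t =
      Algebra.TensorProduct.productMap (IsScalarTower.toAlgHom k₁ k₂ K₂) (IsScalarTower.toAlgHom k₁ K₁ K₂) (e t) := by
    intro t
    show _ = Algebra.TensorProduct.productMap _ _
      (TensorProduct.congr (LinearEquiv.refl k₁ k₂) (AlgEquiv.ofBijective f hf).toLinearEquiv
        ((TensorProduct.AlgebraTensorModule.cancelBaseChange k₀ k₁ k₁ k₂ K₀).symm t))
    induction t using TensorProduct.induction_on with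
    | zero => simp
    | tmul c a =>
      have hc : (TensorProduct.AlgebraTensorModule.cancelBaseChange k₀ k₁ k₁ k₂ K₀).symm (c ⊗ₜ a) =
          c ⊗ₜ ((1 : k₁) ⊗ₜ a) := by
        rw [LinearEquiv.symm_apply_eq, TensorProduct.AlgebraTensorModule.cancelBaseChange_tmul, one_smul]
      rw [hc, TensorProduct.congr_tmul, Algebra.TensorProduct.productMap_apply_tmul,
        Algebra.TensorProduct.productMap_apply_tmul]
      simp only [IsScalarTower.coe_toAlgHom', LinearEquiv.refl_apply]
      congr 1
      show algebraMap K₀ K₂ a = algebraMap K₁ K₂ (f ((1 : k₁) ⊗ₜ a))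
      simp [f, IsScalarTower.algebraMap_apply K₀ K₁ K₂]
    | add x y hx hy => simp only [map_add] at hx hy ⊢; rw [hx, hy]
  rw [funext key]
  exact (Function.Bijective.of_comp_iff _ e.bijective).symm

end Groth.Agent.PIGenus24
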