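import Groth.Agent.PIGenus24.Drop
import Groth.Agent.PIGenus24.Models
import Groth.Agent.S11006
import Mathlib.FieldTheory.Normal.Closure
import Mathlib.FieldTheory.Galois.Basic
import Mathlib.FieldTheory.PurelyInseparable.PerfectClosure

/-! A constant extension of least genus is nonsingular. -/

set_option autoImplicit false
set_option linter.style.haveILetI false
set_option backward.isDefEq.respectTransparency false
set_option maxHeartbeats 1000000

open FunFld TensorProduct
open Groth.Agent.CommAlg4
universe u v

namespace Groth.Agent.PIGenus24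

theorem exists_normal_field (k k' : Type u) [Field k] [Field k'] [Algebra k k'] [FiniteDimensional k k'] :
    ∃ (L : Type u) (_ : Field L) (_ : Algebra k L) (_ : Algebra k' L) (_ : IsScalarTower k k' L),
      FiniteDimensional k L ∧ FiniteDimensional k' L ∧ Normal k L := by
  haveI : Algebra.IsAlgebraic k (AlgebraicClosure k') := Algebra.IsAlgebraic.trans k k' (AlgebraicClosure k')
  haveI : IsAlgClosure k (AlgebraicClosure k') := ⟨inferInstance, inferInstance⟩
  haveI : Normal k (AlgebraicClosure k') := IsAlgClosure.normal k _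
  let L := IntermediateField.normalClosure k k' (AlgebraicClosure k')
  exact ⟨L, inferInstance, inferInstance, inferInstance, inferInstance, inferInstance,
    Module.Finite.right k k' L, inferInstance⟩

/-- A normal extension is separable over a purely inseparable subextension. -/
theorem exists_pi_subfield (k L : Type u) [Field k] [Field L] [Algebra k L] [FiniteDimensional k L] [Normal k L] :
    ∃ F : IntermediateField k L, IsPurelyInseparable k F ∧ Algebra.IsSeparable F L := by
  classical
  refine ⟨IntermediateField.fixedField (⊤ : Subgroup Gal(L/k)), ?_, ?_⟩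
  · rw [isPurelyInseparable_iff_perfectClosure_eq_top, eq_top_iff]
    rintro ⟨a, ha⟩ -
    rw [mem_perfectClosure_iff_natSepDegree_eq_one]
    have hmin : minpoly k (⟨a, ha⟩ : IntermediateField.fixedField (⊤ : Subgroup Gal(L/k))) = minpoly k a :=
      (minpoly.algebraMap_eq (FaithfulSMul.algebraMap_injective _ L) _).symm
    rw [hmin, Polynomial.natSepDegree_eq_of_splits _ (Normal.splits (inferInstance : Normal k L) a),
      Finset.card_eq_one]
    refine ⟨a, Finset.eq_singleton_iff_unique_mem.2 ⟨?_, fun b hb => ?_⟩⟩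
    · rw [Multiset.mem_toFinset, Polynomial.mem_aroots]
      exact ⟨minpoly.ne_zero (IsIntegral.of_finite k a), minpoly.aeval k a⟩
    · rw [Multiset.mem_toFinset, Polynomial.mem_aroots] at hb
      have hab : minpoly k a = minpoly k b :=
        minpoly.eq_of_irreducible_of_monic (minpoly.irreducible (IsIntegral.of_finite k a)) hb.2
          (minpoly.monic (IsIntegral.of_finite k a))
      obtain ⟨σ, hσ⟩ := (Normal.minpoly_eq_iff_mem_orbit (F := k) L).1 hab.symm
      exact hσ.symm.trans (((IntermediateField.mem_fixedField_iff _ a).1 ha σ trivial))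
  · exact inferInstanceAs (Algebra.IsSeparable (FixedPoints.subfield (⊤ : Subgroup Gal(L/k)) L) L)

/-- Separable constant extensions are nonsingular, in the subring form. -/
theorem nonsingular_of_separable {k F L : Type u} {KF KL : Type v} [Field k] [Field F] [Field L] [Field KF] [Field KL]
    [Algebra k F] [FiniteDimensional k F] [Algebra F L] [FiniteDimensional F L] [Algebra.IsSeparable F L]
    [Algebra k KF] [Algebra F KF] [IsScalarTower k F KF] [Algebra F KL] [Algebra L KL] [IsScalarTower F L KL]
    [Algebra KF KL] [IsScalarTower F KF KL]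
    (h : Function.Bijective (Algebra.TensorProduct.productMap
      (IsScalarTower.toAlgHom F L KL) (IsScalarTower.toAlgHom F KF KL)))
    (Q : Place k KF) :
    integralClosure (Q.O.toSubring.map (algebraMap KF KL)) KL =
      Algebra.adjoin (Q.O.toSubring.map (algebraMap KF KL)) (Set.range (algebraMap L KL)) := by
  let P : Place F KF := toBig Q
  letI : Algebra P.O KL := ((algebraMap KF KL).comp P.O.subtype).toAlgebra
  haveI : IsScalarTower P.O KF KL := IsScalarTower.of_algebraMap_eq fun _ => rfl
  haveI : IsReduced (L ⊗[F] IsLocalRing.ResidueField P.O) := ConstExt.isReduced_of_separable P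
  have hP := ConstExt.integralClosure_eq h P
  refine le_antisymm (fun z hz => ?_) (ConstExt.adjoin_le_integralClosure (F := L) _ fun c =>
    ⟨algebraMap F KF c, val_const_le_one Q c, (IsScalarTower.algebraMap_apply F KF KL c).symm⟩)
  have hz' : z ∈ integralClosure P.O KL :=
    (ConstExt.isIntegral_subringMap_iff (algebraMap KF KL) Q.O.toSubring z).1 hz
  rw [hP] at hz'
  clear hz
  induction hz' using Algebra.adjoin_induction with
  | mem y hy => exact Algebra.subset_adjoin hy
  | algebraMap r =>
    exact Subalgebra.algebraMap_mem _ (⟨_, ⟨(r : KF), r.2, rfl⟩⟩ : Q.O.toSubring.map (algebraMap KF KL))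
  | add x y _ _ hx hy => exact add_mem hx hy
  | mul x y _ _ hx hy => exact mul_mem hx hy

theorem exists_nonsingular_extension (k : Type u) (K : Type v) [Field k] [Field K] [Algebra k K]
    (hK : IsFunctionField k K) (hg : IsGeometric k K) :
    ∃ (k' : Type u) (_ : Field k') (_ : Algebra k k'), FiniteDimensional k k' ∧ IsPurelyInseparable k k' ∧
      ∀ (K' : Type v) [Field K'] [Algebra K K'] [Algebra k' K'] [Algebra k K']
        [IsScalarTower k k' K'] [IsScalarTower k K K'],
        Function.Bijective (Algebra.TensorProduct.productMap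
          (IsScalarTower.toAlgHom k k' K') (IsScalarTower.toAlgHom k K K')) →
        ∀ (Q : FunFld.Place k' K') (k'' : Type u) [Field k''] [Algebra k' k''] [FiniteDimensional k' k'']
          (K'' : Type v) [Field K''] [Algebra K' K''] [Algebra k'' K''] [Algebra k' K'']
          [IsScalarTower k' k'' K''] [IsScalarTower k' K' K''],
          Function.Bijective (Algebra.TensorProduct.productMap
            (IsScalarTower.toAlgHom k' k'' K'') (IsScalarTower.toAlgHom k' K' K'')) →
          integralClosure (Q.O.toSubring.map (algebraMap K' K'')) K'' =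
            Algebra.adjoin (Q.O.toSubring.map (algebraMap K' K'')) (Set.range (algebraMap k'' K'')) := by
  classical
  let S : Set ℕ := {g | ∃ (k₁ : Type u) (_ : Field k₁) (_ : Algebra k k₁) (K₁ : Type v) (_ : Field K₁)
    (_ : Algebra K K₁) (_ : Algebra k₁ K₁) (_ : Algebra k K₁) (_ : IsScalarTower k k₁ K₁) (_ : IsScalarTower k K K₁),
    FiniteDimensional k k₁ ∧ IsPurelyInseparable k k₁ ∧ Function.Bijective (Algebra.TensorProduct.productMap
      (IsScalarTower.toAlgHom k k₁ K₁) (IsScalarTower.toAlgHom k K K₁)) ∧ genus k₁ K₁ = g}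
  have hS : ∃ g, g ∈ S := ⟨_, k, inferInstance, inferInstance, K, inferInstance, inferInstance, inferInstance,
    inferInstance, inferInstance, inferInstance, inferInstance, inferInstance, bijective_self k K, rfl⟩
  obtain ⟨k₀, i1, i2, K₀, i3, i4, i5, i6, i7, i8, hfd, hpi, hb₀, hmin₀⟩ := Nat.find_spec hS
  refine ⟨k₀, i1, i2, hfd, hpi, ?_⟩
  intro K' iK' a1 a2 a3 t1 t2 hb Q k'' ik'' b1 fd K'' iK'' b2 b3 b4 t3 t4 hb'
  haveI := hfd
  haveI := hpi
  obtain ⟨hK₀, hg₀⟩ := S11006.result k k₀ K K₀ hb₀ hK hg
  obtain ⟨hK', hg'⟩ := S11006.result k k₀ K K' hb hK hg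
  -- the given model also has least genus
  have hle : genus k₀ K' ≤ Nat.find hS := by
    let j : K₀ →ₐ[k] K' := (Algebra.TensorProduct.productMap (IsScalarTower.toAlgHom k k₀ K')
      (IsScalarTower.toAlgHom k K K')).comp (AlgEquiv.ofBijective _ hb₀).symm.toAlgHom
    have hj : ∀ t, j (Algebra.TensorProduct.productMap (IsScalarTower.toAlgHom k k₀ K₀)
        (IsScalarTower.toAlgHom k K K₀) t) = Algebra.TensorProduct.productMap (IsScalarTower.toAlgHom k k₀ K')
        (IsScalarTower.toAlgHom k K K') t := fun t =>
      congrArg (Algebra.TensorProduct.productMap (IsScalarTower.toAlgHom k k₀ K') (IsScalarTower.toAlgHom k K K'))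
        ((AlgEquiv.ofBijective _ hb₀).symm_apply_apply t)
    letI : Algebra K₀ K' := j.toRingHom.toAlgebra
    haveI : IsScalarTower k₀ K₀ K' := IsScalarTower.of_algebraMap_eq fun c => by
      have h := hj (c ⊗ₜ 1)
      simp at h
      exact h.symm
    haveI : IsScalarTower K K₀ K' := IsScalarTower.of_algebraMap_eq fun a => by
      have h := hj (1 ⊗ₜ a)
      simp at h
      exact h.symm
    have h1 := (bijective_trans_iff (k₂ := k₀) (K₂ := K') hb₀).2 hb
    rw [← hmin₀]
    exact (genus_le_and h1 hK₀ hK').1
  obtain ⟨hK'', hg''⟩ := S11006.result k₀ k'' K' K'' hb' hK' hg'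
  obtain ⟨L, iL, l1, l2, l3, fd1, fd2, nL⟩ := exists_normal_field k₀ k''
  obtain ⟨F, hFpi, hFsep⟩ := exists_pi_subfield k₀ L
  obtain ⟨KF, iKF, f1, f2, f3, f4, f5, hF⟩ := exists_model k₀ F K' hg'
  obtain ⟨KL, iKL, g1, g2, g3, g4, g5, hL⟩ := exists_model k'' L K'' hg''
  letI : Algebra K' KL := ((algebraMap K'' KL).comp (algebraMap K' K'')).toAlgebra
  letI : Algebra k₀ KL := ((algebraMap k'' KL).comp (algebraMap k₀ k'')).toAlgebra
  haveI : IsScalarTower k₀ k'' KL := IsScalarTower.of_algebraMap_eq fun _ => rfl
  haveI : IsScalarTower K' K'' KL := IsScalarTower.of_algebraMap_eq fun _ => rfl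
  haveI : IsScalarTower k₀ L KL := IsScalarTower.of_algebraMap_eq fun c => by
    show algebraMap k'' KL (algebraMap k₀ k'' c) = _
    rw [IsScalarTower.algebraMap_apply k'' L KL, ← IsScalarTower.algebraMap_apply k₀ k'' L]
  haveI : IsScalarTower k₀ K'' KL := IsScalarTower.of_algebraMap_eq fun c => by
    show algebraMap k'' KL (algebraMap k₀ k'' c) = _
    rw [IsScalarTower.algebraMap_apply k'' K'' KL, ← IsScalarTower.algebraMap_apply k₀ k'' K'']
  haveI : IsScalarTower k₀ K' KL := IsScalarTower.of_algebraMap_eq fun c => by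
    show _ = algebraMap K'' KL (algebraMap K' K'' (algebraMap k₀ K' c))
    rw [← IsScalarTower.algebraMap_apply k₀ K' K'', ← IsScalarTower.algebraMap_apply k₀ K'' KL]
  have hbL := (bijective_trans_iff (k₂ := L) (K₂ := KL) hb').1 hL
  haveI : IsScalarTower F L KL := inferInstance
  haveI : IsScalarTower k₀ F KL := IsScalarTower.of_algebraMap_eq fun c => by
    rw [IsScalarTower.algebraMap_apply F L KL, ← IsScalarTower.algebraMap_apply k₀ F L, ← IsScalarTower.algebraMap_apply k₀ L KL]
  let j : KF →ₐ[k₀] KL := (Algebra.TensorProduct.productMap (IsScalarTower.toAlgHom k₀ F KL)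
    (IsScalarTower.toAlgHom k₀ K' KL)).comp (AlgEquiv.ofBijective _ hF).symm.toAlgHom
  have hj : ∀ t, j (Algebra.TensorProduct.productMap (IsScalarTower.toAlgHom k₀ F KF)
      (IsScalarTower.toAlgHom k₀ K' KF) t) = Algebra.TensorProduct.productMap (IsScalarTower.toAlgHom k₀ F KL)
      (IsScalarTower.toAlgHom k₀ K' KL) t := fun t =>
    congrArg (Algebra.TensorProduct.productMap (IsScalarTower.toAlgHom k₀ F KL) (IsScalarTower.toAlgHom k₀ K' KL))
      ((AlgEquiv.ofBijective _ hF).symm_apply_apply t)
  letI : Algebra KF KL := j.toRingHom.toAlgebra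
  haveI : IsScalarTower F KF KL := IsScalarTower.of_algebraMap_eq fun c => by
    have h := hj (c ⊗ₜ 1)
    simp at h
    exact h.symm
  haveI : IsScalarTower K' KF KL := IsScalarTower.of_algebraMap_eq fun a => by
    have h := hj (1 ⊗ₜ a)
    simp at h
    exact h.symm
  have h2 := (bijective_trans_iff (k₂ := L) (K₂ := KL) hF).2 hbL
  haveI : FiniteDimensional F L := Module.Finite.right k₀ F L
  -- nonsingular with respect to F
  have hQF : integralClosure (Q.O.toSubring.map (algebraMap K' KF)) KF =
      Algebra.adjoin (Q.O.toSubring.map (algebraMap K' KF)) (Set.range (algebraMap F KF)) := by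
    obtain ⟨hKF, -⟩ := S11006.result k₀ F K' KF hF hK' hg'
    obtain ⟨hle', heq⟩ := genus_le_and (hpi := hFpi) hF hK' hKF
    refine heq (le_antisymm hle' ?_) Q
    letI : Algebra k F := ((algebraMap k₀ F).comp (algebraMap k k₀)).toAlgebra
    haveI : IsScalarTower k k₀ F := IsScalarTower.of_algebraMap_eq fun _ => rfl
    letI : Algebra K KF := ((algebraMap K' KF).comp (algebraMap K K')).toAlgebra
    letI : Algebra k KF := ((algebraMap F KF).comp (algebraMap k F)).toAlgebra
    haveI : IsScalarTower k F KF := IsScalarTower.of_algebraMap_eq fun _ => rfl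
    haveI : IsScalarTower K K' KF := IsScalarTower.of_algebraMap_eq fun _ => rfl
    haveI : IsScalarTower k K KF := IsScalarTower.of_algebraMap_eq fun c => by
      show algebraMap F KF (algebraMap k₀ F (algebraMap k k₀ c)) = algebraMap K' KF (algebraMap K K' (algebraMap k K c))
      rw [← IsScalarTower.algebraMap_apply k₀ F KF, ← IsScalarTower.algebraMap_apply k K K',
        IsScalarTower.algebraMap_apply k k₀ K', ← IsScalarTower.algebraMap_apply k₀ K' KF]
    have hbF := (bijective_trans_iff (k₂ := F) (K₂ := KF) hb).1 hF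
    haveI := hFpi
    refine hle.trans (Nat.find_min' hS ?_)
    exact ⟨F, inferInstance, inferInstance, KF, iKF, inferInstance, f2, inferInstance, inferInstance, inferInstance,
      Module.Finite.trans k₀ F, IsPurelyInseparable.trans k k₀ F, hbF, rfl⟩
  have hQL := (ConstExt.tower_iff hF h2 hK' Q).2 ⟨hQF, fun R _ => nonsingular_of_separable h2 R⟩
  exact ((ConstExt.tower_iff hb' hL hK' Q).1 hQL).1

end Groth.Agent.PIGenus24
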